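import Mathlib
import Cfsg.Agent.Helper5.TitXFin

/-!
# Words in helper5's model of the Tits group (three generators of order 13, 1755 points)
-/

set_option autoImplicit false

namespace Cfsg.Agent.Helper9.TitsM

open Cfsg.Agent.Helper5.LP Cfsg.Agent.Helper5.TitX Cfsg.Agent.Helper5.StemP

/-- two words act in the same way on the points `lo, …, lo + cnt - 1`. -/
def eqRange (T : ℕ → ℕ → ℕ) (l1 l2 : List ℕ) : ℕ → ℕ → Bool
  | 0, _ => true
  | cnt + 1, lo => Nat.beq (actL T l1 lo) (actL T l2 lo) && eqRange T l1 l2 cnt (Nat.succ lo)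

theorem eqRange_spec (T : ℕ → ℕ → ℕ) (l1 l2 : List ℕ) : ∀ (cnt lo : ℕ),
    eqRange T l1 l2 cnt lo = true → ∀ v, lo ≤ v → v < lo + cnt → actL T l1 v = actL T l2 v
  | 0, lo, _, v, h1, h2 => by omega
  | cnt + 1, lo, h, v, h1, h2 => by
    rw [eqRange, Bool.and_eq_true] at h
    rcases Nat.eq_or_lt_of_le h1 with rfl | h1
    · exact Nat.eq_of_beq_eq_true h.1
    · exact eqRange_spec T l1 l2 cnt (Nat.succ lo) h.2 v h1 (by omega)

/-- the element of `P` spelled by a word in the letters `a, a⁻¹, b, b⁻¹, c, c⁻¹`. -/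
noncomputable def E (l : List ℕ) : P := (l.map (lval g)).prod

theorem E_nil : E [] = 1 := rfl

theorem E_append (l l' : List ℕ) : E (l ++ l') = E l * E l' := by
  unfold E
  rw [List.map_append, List.prod_append]

theorem E_zero : E [0] = g 0 := by
  unfold E
  rw [List.map_cons, List.map_nil, List.prod_cons, List.prod_nil, mul_one]
  exact lval_even g 0

theorem E_eq (l1 l2 : List ℕ) (h1 : ∀ c ∈ l1, c < 6) (h2 : ∀ c ∈ l2, c < 6)
    (h : eqRange tab6 l1 l2 1755 0 = true) : E l1 = E l2 := by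
  apply rhoP_injective
  ext v
  show (rhoP ((l1.map (lval g)).prod) v).val = (rhoP ((l2.map (lval g)).prod) v).val
  rw [rhoP_word l1 h1 v, rhoP_word l2 h2 v]
  exact eqRange_spec tab6 l1 l2 1755 0 h v.val (Nat.zero_le _) (by rw [Nat.zero_add]; exact v.isLt)

theorem E_ne (l1 l2 : List ℕ) (h1 : ∀ c ∈ l1, c < 6) (h2 : ∀ c ∈ l2, c < 6) (v : ℕ)
    (hv : v < 1755) (h : actL tab6 l1 v ≠ actL tab6 l2 v) : E l1 ≠ E l2 := by
  intro he
  apply h
  have e1 := rhoP_word l1 h1 ⟨v, hv⟩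
  have e2 := rhoP_word l2 h2 ⟨v, hv⟩
  have he' : (l1.map (lval g)).prod = (l2.map (lval g)).prod := he
  rw [he'] at e1
  exact e1.symm.trans e2

end Cfsg.Agent.Helper9.TitsM
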