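import Mathlib
import Cfsg.Agent.Helper9.TitsM.Words

/-! generated: words in the Tits group (helper5's model on 1755 points): an element `y` of order 3
normalising `⟨g 0⟩`, the 27 elements of a Sylow 3-subgroup (closed under left multiplication by
the second and third of them) and elements conjugating each of them to `y` or `y⁻¹`; all
relations are checked on the 1755 points. -/

set_option autoImplicit false
set_option maxRecDepth 1000000
set_option Elab.async false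

namespace Cfsg.Agent.Helper9.TitsM

open Cfsg.Agent.Helper5.LP Cfsg.Agent.Helper5.TitX

/-- the word of `y`. -/
def wy : List ℕ := [2, 2, 0, 2, 2, 2, 2, 2]

/-- the word of `y⁻¹`. -/
def wyi : List ℕ := [3, 3, 3, 3, 3, 1, 3, 3]

/-- the words of the 27 elements of the Sylow 3-subgroup. -/
def Ws : List (List ℕ) := [[],
  [4, 3, 1, 5, 3, 1, 5, 5],
  [1, 1, 2, 2, 2, 0, 0, 2],
  [4, 4, 0, 2, 4, 0, 2, 5],
  [5, 2, 4, 4, 1, 1, 1, 4, 3, 4, 2],
  [1, 1, 5, 1, 5, 3, 0, 2, 5, 3],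
  [3, 1, 1, 3, 3, 3, 0, 0],
  [4, 4, 1, 1, 1, 2, 0, 5, 1, 5, 1],
  [1, 1, 3, 1, 4, 0, 2, 5, 3, 1],
  [2, 0, 2, 5, 0, 0, 5, 2, 5, 3, 0, 2],
  [1, 5, 2, 5, 0, 0, 5, 2, 1, 1, 1, 3],
  [0, 2, 4, 3, 1, 5, 0, 2, 0, 0],
  [0, 4, 0, 4, 1, 3, 0, 0, 0, 5, 5],
  [0, 2, 1, 1, 1, 1, 1, 3, 3, 3, 0],
  [2, 4, 3, 1, 2, 4, 0, 4, 0, 0],
  [0, 0, 0, 0, 2, 2, 0, 0, 2, 0],
  [3, 0, 0, 2, 0, 4, 3, 1, 3, 1, 1],
  [5, 5, 3, 0, 0, 0, 3, 4, 4, 0, 2, 4],
  [2, 0, 0, 0, 4, 4, 3, 5, 1, 3, 5],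
  [0, 4, 0, 2, 0, 0, 5, 3, 5, 3, 5, 2],
  [5, 3, 1, 5, 5, 0, 3, 1, 3, 0, 4, 4],
  [0, 2, 0, 0, 0, 2, 0, 2, 2, 2],
  [1, 1, 3, 0, 0, 2, 2, 2, 0, 0, 0],
  [4, 3, 5, 3, 1, 1, 5, 0, 4, 2, 0, 0],
  [4, 2, 0, 4, 2, 5, 5, 1, 1, 1, 3],
  [2, 2, 0, 2, 2, 2, 2, 2],
  [3, 3, 3, 3, 3, 1, 3, 3]]

/-- the `i`-th word. -/
def W (i : ℕ) : List ℕ := Ws.getD i []

/-- left multiplication by `W 1` on the 27 elements. -/
def sU (i : ℕ) : ℕ := ([1, 3, 5, 0, 8, 10, 12, 13, 15, 17, 2, 14, 16, 20, 22, 4, 6, 21, 23, 24, 7, 9, 11, 25, 26, 18, 19] : List ℕ).getD i 0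

/-- left multiplication by `W 2` on the 27 elements. -/
def sV (i : ℕ) : ℕ := ([2, 4, 6, 7, 9, 11, 0, 14, 16, 1, 17, 18, 19, 21, 3, 22, 23, 24, 5, 20, 12, 25, 26, 8, 10, 13, 15] : List ℕ).getD i 0

/-- the generator (0 for `W 1`, 1 for `W 2`) leading to the `i`-th element. -/
def parG (i : ℕ) : ℕ := ([0, 0, 1, 0, 1, 0, 1, 1, 0, 1, 0, 1, 0, 0, 1, 0, 1, 0, 1, 1, 0, 1, 0, 1, 1, 1, 1] : List ℕ).getD i 0

/-- the element from which the `i`-th element is reached. -/
def parI (i : ℕ) : ℕ := ([0, 0, 0, 1, 1, 2, 2, 3, 4, 4, 5, 5, 6, 7, 7, 8, 8, 9, 11, 12, 13, 13, 14, 16, 17, 21, 22] : List ℕ).getD i 0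

/-- the conjugating words. -/
def Whs : List (List ℕ) := [[],
  [5, 1, 3, 0, 4, 1, 3, 3],
  [5, 1, 4, 0, 0, 0, 4, 3],
  [3, 0, 0, 4, 4, 0, 2, 4],
  [2, 4, 3, 4, 1, 1, 1, 4, 3],
  [5, 5, 2, 2, 1, 1],
  [5, 1, 4, 0, 0, 0, 4, 3],
  [1, 5, 0, 2, 4, 2, 5, 2],
  [1, 1, 5, 3, 5, 0, 5],
  [4, 1, 4, 2, 4, 0, 0],
  [4, 1, 4, 2, 4, 0, 0],
  [1, 1, 5, 3, 5, 0, 5],
  [1, 5, 3, 1, 1, 4, 2, 0],
  [2, 0, 2, 0],
  [5, 5, 2, 2, 1, 1],
  [1, 3, 1, 3],
  [3, 5, 2, 5, 2, 0, 0, 0, 5],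
  [3, 0, 4, 2, 2, 2, 4, 3],
  [4, 4, 0, 2, 5],
  [4, 1, 3, 5, 5, 1],
  [3, 0, 4, 2, 2, 2, 4, 3],
  [1, 3, 1, 3],
  [2, 0, 2, 0],
  [4, 1, 3, 5, 5, 1],
  [4, 4, 0, 2, 5],
  [],
  []]

/-- the `i`-th conjugating word. -/
def Wh (i : ℕ) : List ℕ := Whs.getD i []

/-- the target of the `i`-th conjugation: `y` (true) or `y⁻¹` (false). -/
def sgn (i : ℕ) : Bool := ([true, true, false, true, true, false, true, true, true, true, false, false, true, true, true, false, true, false, false, true, true, true, false, false, true, true, false] : List Bool).getD i true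

/-- the word of the target of the `i`-th conjugation. -/
def wt (i : ℕ) : List ℕ := if sgn i then wy else wyi

theorem r_yi : eqRange tab6 (wyi ++ wy) ([]) 1755 0 = true := by
  decide +kernel

theorem r_ya : eqRange tab6 (wy ++ [0]) ([0, 0, 0] ++ wy) 1755 0 = true := by
  decide +kernel

theorem r_u0 : eqRange tab6 (W 1 ++ W 0) (W (sU 0)) 1755 0 = true := by
  decide +kernel

theorem r_v0 : eqRange tab6 (W 2 ++ W 0) (W (sV 0)) 1755 0 = true := by
  decide +kernel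

theorem r_u1 : eqRange tab6 (W 1 ++ W 1) (W (sU 1)) 1755 0 = true := by
  decide +kernel

theorem r_v1 : eqRange tab6 (W 2 ++ W 1) (W (sV 1)) 1755 0 = true := by
  decide +kernel

theorem r_u2 : eqRange tab6 (W 1 ++ W 2) (W (sU 2)) 1755 0 = true := by
  decide +kernel

theorem r_v2 : eqRange tab6 (W 2 ++ W 2) (W (sV 2)) 1755 0 = true := by
  decide +kernel

theorem r_u3 : eqRange tab6 (W 1 ++ W 3) (W (sU 3)) 1755 0 = true := by
  decide +kernel

theorem r_v3 : eqRange tab6 (W 2 ++ W 3) (W (sV 3)) 1755 0 = true := by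
  decide +kernel

theorem r_u4 : eqRange tab6 (W 1 ++ W 4) (W (sU 4)) 1755 0 = true := by
  decide +kernel

theorem r_v4 : eqRange tab6 (W 2 ++ W 4) (W (sV 4)) 1755 0 = true := by
  decide +kernel

theorem r_u5 : eqRange tab6 (W 1 ++ W 5) (W (sU 5)) 1755 0 = true := by
  decide +kernel

theorem r_v5 : eqRange tab6 (W 2 ++ W 5) (W (sV 5)) 1755 0 = true := by
  decide +kernel

theorem r_u6 : eqRange tab6 (W 1 ++ W 6) (W (sU 6)) 1755 0 = true := by
  decide +kernel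

theorem r_v6 : eqRange tab6 (W 2 ++ W 6) (W (sV 6)) 1755 0 = true := by
  decide +kernel

theorem r_u7 : eqRange tab6 (W 1 ++ W 7) (W (sU 7)) 1755 0 = true := by
  decide +kernel

theorem r_v7 : eqRange tab6 (W 2 ++ W 7) (W (sV 7)) 1755 0 = true := by
  decide +kernel

theorem r_u8 : eqRange tab6 (W 1 ++ W 8) (W (sU 8)) 1755 0 = true := by
  decide +kernel

theorem r_v8 : eqRange tab6 (W 2 ++ W 8) (W (sV 8)) 1755 0 = true := by
  decide +kernel

theorem r_u9 : eqRange tab6 (W 1 ++ W 9) (W (sU 9)) 1755 0 = true := by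
  decide +kernel

theorem r_v9 : eqRange tab6 (W 2 ++ W 9) (W (sV 9)) 1755 0 = true := by
  decide +kernel

theorem r_u10 : eqRange tab6 (W 1 ++ W 10) (W (sU 10)) 1755 0 = true := by
  decide +kernel

theorem r_v10 : eqRange tab6 (W 2 ++ W 10) (W (sV 10)) 1755 0 = true := by
  decide +kernel

theorem r_u11 : eqRange tab6 (W 1 ++ W 11) (W (sU 11)) 1755 0 = true := by
  decide +kernel

theorem r_v11 : eqRange tab6 (W 2 ++ W 11) (W (sV 11)) 1755 0 = true := by
  decide +kernel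

theorem r_u12 : eqRange tab6 (W 1 ++ W 12) (W (sU 12)) 1755 0 = true := by
  decide +kernel

theorem r_v12 : eqRange tab6 (W 2 ++ W 12) (W (sV 12)) 1755 0 = true := by
  decide +kernel

theorem r_u13 : eqRange tab6 (W 1 ++ W 13) (W (sU 13)) 1755 0 = true := by
  decide +kernel

theorem r_v13 : eqRange tab6 (W 2 ++ W 13) (W (sV 13)) 1755 0 = true := by
  decide +kernel

theorem r_u14 : eqRange tab6 (W 1 ++ W 14) (W (sU 14)) 1755 0 = true := by
  decide +kernel

theorem r_v14 : eqRange tab6 (W 2 ++ W 14) (W (sV 14)) 1755 0 = true := by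
  decide +kernel

theorem r_u15 : eqRange tab6 (W 1 ++ W 15) (W (sU 15)) 1755 0 = true := by
  decide +kernel

theorem r_v15 : eqRange tab6 (W 2 ++ W 15) (W (sV 15)) 1755 0 = true := by
  decide +kernel

theorem r_u16 : eqRange tab6 (W 1 ++ W 16) (W (sU 16)) 1755 0 = true := by
  decide +kernel

theorem r_v16 : eqRange tab6 (W 2 ++ W 16) (W (sV 16)) 1755 0 = true := by
  decide +kernel

theorem r_u17 : eqRange tab6 (W 1 ++ W 17) (W (sU 17)) 1755 0 = true := by
  decide +kernel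

theorem r_v17 : eqRange tab6 (W 2 ++ W 17) (W (sV 17)) 1755 0 = true := by
  decide +kernel

theorem r_u18 : eqRange tab6 (W 1 ++ W 18) (W (sU 18)) 1755 0 = true := by
  decide +kernel

theorem r_v18 : eqRange tab6 (W 2 ++ W 18) (W (sV 18)) 1755 0 = true := by
  decide +kernel

theorem r_u19 : eqRange tab6 (W 1 ++ W 19) (W (sU 19)) 1755 0 = true := by
  decide +kernel

theorem r_v19 : eqRange tab6 (W 2 ++ W 19) (W (sV 19)) 1755 0 = true := by
  decide +kernel

theorem r_u20 : eqRange tab6 (W 1 ++ W 20) (W (sU 20)) 1755 0 = true := by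
  decide +kernel

theorem r_v20 : eqRange tab6 (W 2 ++ W 20) (W (sV 20)) 1755 0 = true := by
  decide +kernel

theorem r_u21 : eqRange tab6 (W 1 ++ W 21) (W (sU 21)) 1755 0 = true := by
  decide +kernel

theorem r_v21 : eqRange tab6 (W 2 ++ W 21) (W (sV 21)) 1755 0 = true := by
  decide +kernel

theorem r_u22 : eqRange tab6 (W 1 ++ W 22) (W (sU 22)) 1755 0 = true := by
  decide +kernel

theorem r_v22 : eqRange tab6 (W 2 ++ W 22) (W (sV 22)) 1755 0 = true := by
  decide +kernel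

theorem r_u23 : eqRange tab6 (W 1 ++ W 23) (W (sU 23)) 1755 0 = true := by
  decide +kernel

theorem r_v23 : eqRange tab6 (W 2 ++ W 23) (W (sV 23)) 1755 0 = true := by
  decide +kernel

theorem r_u24 : eqRange tab6 (W 1 ++ W 24) (W (sU 24)) 1755 0 = true := by
  decide +kernel

theorem r_v24 : eqRange tab6 (W 2 ++ W 24) (W (sV 24)) 1755 0 = true := by
  decide +kernel

theorem r_u25 : eqRange tab6 (W 1 ++ W 25) (W (sU 25)) 1755 0 = true := by
  decide +kernel

theorem r_v25 : eqRange tab6 (W 2 ++ W 25) (W (sV 25)) 1755 0 = true := by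
  decide +kernel

theorem r_u26 : eqRange tab6 (W 1 ++ W 26) (W (sU 26)) 1755 0 = true := by
  decide +kernel

theorem r_v26 : eqRange tab6 (W 2 ++ W 26) (W (sV 26)) 1755 0 = true := by
  decide +kernel

theorem r_c1 : eqRange tab6 (Wh 1 ++ W 1) (wt 1 ++ Wh 1) 1755 0 = true := by
  decide +kernel

theorem r_c2 : eqRange tab6 (Wh 2 ++ W 2) (wt 2 ++ Wh 2) 1755 0 = true := by
  decide +kernel

theorem r_c3 : eqRange tab6 (Wh 3 ++ W 3) (wt 3 ++ Wh 3) 1755 0 = true := by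
  decide +kernel

theorem r_c4 : eqRange tab6 (Wh 4 ++ W 4) (wt 4 ++ Wh 4) 1755 0 = true := by
  decide +kernel

theorem r_c5 : eqRange tab6 (Wh 5 ++ W 5) (wt 5 ++ Wh 5) 1755 0 = true := by
  decide +kernel

theorem r_c6 : eqRange tab6 (Wh 6 ++ W 6) (wt 6 ++ Wh 6) 1755 0 = true := by
  decide +kernel

theorem r_c7 : eqRange tab6 (Wh 7 ++ W 7) (wt 7 ++ Wh 7) 1755 0 = true := by
  decide +kernel

theorem r_c8 : eqRange tab6 (Wh 8 ++ W 8) (wt 8 ++ Wh 8) 1755 0 = true := by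
  decide +kernel

theorem r_c9 : eqRange tab6 (Wh 9 ++ W 9) (wt 9 ++ Wh 9) 1755 0 = true := by
  decide +kernel

theorem r_c10 : eqRange tab6 (Wh 10 ++ W 10) (wt 10 ++ Wh 10) 1755 0 = true := by
  decide +kernel

theorem r_c11 : eqRange tab6 (Wh 11 ++ W 11) (wt 11 ++ Wh 11) 1755 0 = true := by
  decide +kernel

theorem r_c12 : eqRange tab6 (Wh 12 ++ W 12) (wt 12 ++ Wh 12) 1755 0 = true := by
  decide +kernel

theorem r_c13 : eqRange tab6 (Wh 13 ++ W 13) (wt 13 ++ Wh 13) 1755 0 = true := by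
  decide +kernel

theorem r_c14 : eqRange tab6 (Wh 14 ++ W 14) (wt 14 ++ Wh 14) 1755 0 = true := by
  decide +kernel

theorem r_c15 : eqRange tab6 (Wh 15 ++ W 15) (wt 15 ++ Wh 15) 1755 0 = true := by
  decide +kernel

theorem r_c16 : eqRange tab6 (Wh 16 ++ W 16) (wt 16 ++ Wh 16) 1755 0 = true := by
  decide +kernel

theorem r_c17 : eqRange tab6 (Wh 17 ++ W 17) (wt 17 ++ Wh 17) 1755 0 = true := by
  decide +kernel

theorem r_c18 : eqRange tab6 (Wh 18 ++ W 18) (wt 18 ++ Wh 18) 1755 0 = true := by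
  decide +kernel

theorem r_c19 : eqRange tab6 (Wh 19 ++ W 19) (wt 19 ++ Wh 19) 1755 0 = true := by
  decide +kernel

theorem r_c20 : eqRange tab6 (Wh 20 ++ W 20) (wt 20 ++ Wh 20) 1755 0 = true := by
  decide +kernel

theorem r_c21 : eqRange tab6 (Wh 21 ++ W 21) (wt 21 ++ Wh 21) 1755 0 = true := by
  decide +kernel

theorem r_c22 : eqRange tab6 (Wh 22 ++ W 22) (wt 22 ++ Wh 22) 1755 0 = true := by
  decide +kernel

theorem r_c23 : eqRange tab6 (Wh 23 ++ W 23) (wt 23 ++ Wh 23) 1755 0 = true := by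
  decide +kernel

theorem r_c24 : eqRange tab6 (Wh 24 ++ W 24) (wt 24 ++ Wh 24) 1755 0 = true := by
  decide +kernel

theorem r_c25 : eqRange tab6 (Wh 25 ++ W 25) (wt 25 ++ Wh 25) 1755 0 = true := by
  decide +kernel

theorem r_c26 : eqRange tab6 (Wh 26 ++ W 26) (wt 26 ++ Wh 26) 1755 0 = true := by
  decide +kernel

theorem lt_W : ∀ i, ∀ c ∈ W i, c < 6 := by
  intro i
  by_cases hi : i < 27
  · interval_cases i <;> decide
  · have : W i = [] := by
      unfold W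
      rw [List.getD_eq_default]
      simp only [Ws, List.length_cons, List.length_nil]
      omega
    rw [this]
    intro c hc
    cases hc

theorem lt_Wh : ∀ i, ∀ c ∈ Wh i, c < 6 := by
  intro i
  by_cases hi : i < 27
  · interval_cases i <;> decide
  · have : Wh i = [] := by
      unfold Wh
      rw [List.getD_eq_default]
      simp only [Whs, List.length_cons, List.length_nil]
      omega
    rw [this]
    intro c hc
    cases hc

theorem lt_wt : ∀ i, ∀ c ∈ wt i, c < 6 := by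
  intro i
  unfold wt
  split_ifs <;> decide

theorem lt_append {l l' : List ℕ} (h : ∀ c ∈ l, c < 6) (h' : ∀ c ∈ l', c < 6) :
    ∀ c ∈ l ++ l', c < 6 := by
  intro c hc
  rcases List.mem_append.mp hc with hc | hc
  · exact h c hc
  · exact h' c hc

theorem relU : ∀ i, i < 27 → E (W 1 ++ W i) = E (W (sU i)) := by
  intro i hi
  refine E_eq _ _ (lt_append (lt_W 1) (lt_W i)) (lt_W _) ?_
  interval_cases i
  · exact r_u0
  · exact r_u1
  · exact r_u2
  · exact r_u3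
  · exact r_u4
  · exact r_u5
  · exact r_u6
  · exact r_u7
  · exact r_u8
  · exact r_u9
  · exact r_u10
  · exact r_u11
  · exact r_u12
  · exact r_u13
  · exact r_u14
  · exact r_u15
  · exact r_u16
  · exact r_u17
  · exact r_u18
  · exact r_u19
  · exact r_u20
  · exact r_u21
  · exact r_u22
  · exact r_u23
  · exact r_u24
  · exact r_u25
  · exact r_u26

theorem relV : ∀ i, i < 27 → E (W 2 ++ W i) = E (W (sV i)) := by
  intro i hi
  refine E_eq _ _ (lt_append (lt_W 2) (lt_W i)) (lt_W _) ?_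
  interval_cases i
  · exact r_v0
  · exact r_v1
  · exact r_v2
  · exact r_v3
  · exact r_v4
  · exact r_v5
  · exact r_v6
  · exact r_v7
  · exact r_v8
  · exact r_v9
  · exact r_v10
  · exact r_v11
  · exact r_v12
  · exact r_v13
  · exact r_v14
  · exact r_v15
  · exact r_v16
  · exact r_v17
  · exact r_v18
  · exact r_v19
  · exact r_v20
  · exact r_v21
  · exact r_v22
  · exact r_v23
  · exact r_v24
  · exact r_v25
  · exact r_v26

theorem relC : ∀ i, 1 ≤ i → i < 27 → E (Wh i ++ W i) = E (wt i ++ Wh i) := by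
  intro i h1 hi
  refine E_eq _ _ (lt_append (lt_Wh i) (lt_W i)) (lt_append (lt_wt i) (lt_Wh i)) ?_
  interval_cases i
  · exact r_c1
  · exact r_c2
  · exact r_c3
  · exact r_c4
  · exact r_c5
  · exact r_c6
  · exact r_c7
  · exact r_c8
  · exact r_c9
  · exact r_c10
  · exact r_c11
  · exact r_c12
  · exact r_c13
  · exact r_c14
  · exact r_c15
  · exact r_c16
  · exact r_c17
  · exact r_c18
  · exact r_c19
  · exact r_c20
  · exact r_c21
  · exact r_c22
  · exact r_c23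
  · exact r_c24
  · exact r_c25
  · exact r_c26

theorem relYi : E (wyi ++ wy) = E [] :=
  E_eq _ _ (by decide) (by decide) r_yi

theorem relYa : E (wy ++ [0]) = E ([0, 0, 0] ++ wy) :=
  E_eq _ _ (by decide) (by decide) r_ya

/-- the 27 elements are distinct (they move the point `0` to distinct points). -/
theorem W_distinct : ∀ i, i < 27 → ∀ j, j < 27 → i ≠ j →
    actL tab6 (W i) 0 ≠ actL tab6 (W j) 0 := by
  decide +kernel

/-- every element is reached from an earlier one. -/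
theorem par_ok : ∀ i, i < 27 → 1 ≤ i →
    parI i < i ∧ (if parG i = 0 then sU (parI i) else sV (parI i)) = i := by
  decide +kernel

theorem sU_lt : ∀ i, i < 27 → sU i < 27 := by decide +kernel

theorem sV_lt : ∀ i, i < 27 → sV i < 27 := by decide +kernel

end Cfsg.Agent.Helper9.TitsM
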