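import Mathlib
import Cfsg.Agent.Helper9.TitsM.Dat
import Cfsg.Agent.Helper9.TitsTT.Main

/-!
# The Tits group has no faithful 2-transitive action (model side)
-/

set_option autoImplicit false

namespace Cfsg.Agent.Helper9.TitsM

open Cfsg.Agent.Helper5.LP Cfsg.Agent.Helper5.TitX Cfsg.Agent.Helper5.StemP

/-- the element of order 3 normalising `⟨g 0⟩`. -/
noncomputable def y : P := E wy

theorem W_zero : W 0 = [] := rfl

theorem E_wyi : E wyi = y⁻¹ := by
  have h := relYi
  rw [E_append, E_nil] at h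
  exact eq_inv_of_mul_eq_one_left h

theorem conj_xy : y * g 0 * y⁻¹ = g 0 ^ 3 := by
  have h := relYa
  rw [E_append, E_append, E_zero] at h
  have h3 : E [0, 0, 0] = g 0 ^ 3 := by
    have : ([0, 0, 0] : List ℕ) = [0] ++ ([0] ++ [0]) := rfl
    rw [this, E_append, E_append, E_zero, pow_succ, pow_succ, pow_one, mul_assoc]
  rw [h3] at h
  exact mul_inv_eq_of_eq_mul h

/-- the Sylow 3-subgroup. -/
noncomputable def S3 : Subgroup P := Subgroup.closure {E (W 1), E (W 2)}

theorem E_W_injOn : ∀ i, i < 27 → ∀ j, j < 27 → E (W i) = E (W j) → i = j := by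
  intro i hi j hj h
  by_contra hne
  exact E_ne (W i) (W j) (lt_W i) (lt_W j) 0 (by norm_num) (W_distinct i hi j hj hne) h

theorem mul_mem_list' : ∀ s ∈ Submonoid.closure ({E (W 1), E (W 2)} : Set P),
    ∀ i, i < 27 → ∃ j, j < 27 ∧ s * E (W i) = E (W j) := by
  intro s hs
  induction hs using Submonoid.closure_induction with
  | mem z hz =>
    intro i hi
    rcases hz with rfl | rfl
    · exact ⟨sU i, sU_lt i hi, by rw [← E_append]; exact relU i hi⟩
    · exact ⟨sV i, sV_lt i hi, by rw [← E_append]; exact relV i hi⟩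
  | one =>
    intro i hi
    exact ⟨i, hi, one_mul _⟩
  | mul a b _ _ iha ihb =>
    intro i hi
    obtain ⟨j, hj, hbj⟩ := ihb i hi
    obtain ⟨k, hk, hak⟩ := iha j hj
    exact ⟨k, hk, by rw [mul_assoc, hbj, hak]⟩

/-- left multiplication by an element of `S3` permutes the 27 elements. -/
theorem mul_mem_list : ∀ s ∈ S3, ∀ i, i < 27 → ∃ j, j < 27 ∧ s * E (W i) = E (W j) := by
  intro s hs
  have hs' : s ∈ (Subgroup.closure ({E (W 1), E (W 2)} : Set P)).toSubmonoid := hs
  rw [Subgroup.closure_toSubmonoid_of_finite] at hs'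
  exact mul_mem_list' s hs'

/-- every element of `S3` is one of the 27 elements. -/
theorem exists_of_mem : ∀ s ∈ S3, ∃ j, j < 27 ∧ s = E (W j) := by
  intro s hs
  obtain ⟨j, hj, h⟩ := mul_mem_list s hs 0 (by norm_num)
  rw [W_zero, E_nil, mul_one] at h
  exact ⟨j, hj, h⟩

/-- the 27 elements lie in `S3`. -/
theorem E_W_mem : ∀ i, i < 27 → E (W i) ∈ S3 := by
  intro i
  induction i using Nat.strong_induction_on with
  | _ i ih =>
    intro hi
    rcases Nat.eq_zero_or_pos i with rfl | hpos
    · rw [W_zero, E_nil]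
      exact one_mem _
    · obtain ⟨hlt, hs⟩ := par_ok i hi hpos
      have hp : E (W (parI i)) ∈ S3 := ih _ hlt (by omega)
      by_cases hg : parG i = 0
      · rw [if_pos hg] at hs
        rw [← hs, ← relU _ (by omega), E_append]
        exact mul_mem (Subgroup.subset_closure (by simp)) hp
      · rw [if_neg hg] at hs
        rw [← hs, ← relV _ (by omega), E_append]
        exact mul_mem (Subgroup.subset_closure (by simp)) hp

theorem card_S3 : Nat.card S3 = 27 := by
  have hbij : Function.Bijective (fun i : Fin 27 => (⟨E (W i.val), E_W_mem i.val i.isLt⟩ : S3)) := by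
    constructor
    · intro i j h
      have h' : E (W i.val) = E (W j.val) := congrArg Subtype.val h
      exact Fin.ext (E_W_injOn _ i.isLt _ j.isLt h')
    · intro s
      obtain ⟨j, hj, h⟩ := exists_of_mem s.val s.2
      exact ⟨⟨j, hj⟩, Subtype.ext h.symm⟩
  rw [← Nat.card_congr (Equiv.ofBijective _ hbij), Nat.card_fin]

theorem conj_S3 : ∀ s ∈ S3, s ≠ 1 → IsConj s y ∨ IsConj s y⁻¹ := by
  intro s hs hs1
  obtain ⟨j, hj, rfl⟩ := exists_of_mem s hs
  have hj1 : 1 ≤ j := by
    rcases Nat.eq_zero_or_pos j with rfl | h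
    · exact absurd (by rw [W_zero, E_nil]) hs1
    · exact h
  have h := relC j hj1 hj
  rw [E_append, E_append] at h
  have hc : E (Wh j) * E (W j) * (E (Wh j))⁻¹ = E (wt j) := mul_inv_eq_of_eq_mul h
  unfold wt at hc
  by_cases hsg : sgn j = true
  · rw [if_pos hsg] at hc
    exact Or.inl (isConj_iff.mpr ⟨E (Wh j), hc⟩)
  · rw [if_neg hsg, E_wyi] at hc
    exact Or.inr (isConj_iff.mpr ⟨E (Wh j), hc⟩)

/-- **The model of the Tits group has no faithful 2-transitive action.** -/
theorem main_P {Ω : Type*} [Fintype Ω] [MulAction P Ω] [FaithfulSMul P Ω]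
    (hΩ : 3 ≤ Fintype.card Ω) : ¬ MulAction.IsMultiplyPretransitive P Ω 2 :=
  Cfsg.Agent.Helper9.TitsTT.no_two_transitive card_P (g 0) y (order_g 0 (by norm_num)) conj_xy
    S3 card_S3 conj_S3 (by rw [Nat.card_eq_fintype_card]; exact hΩ)

/-- the same for any subgroup of `²F₄(2)` equal to `T0` (to be applied to the commutator
subgroup). -/
theorem main_sub (H : Subgroup GG) (h : H = T0) {Ω : Type*} [Fintype Ω] [MulAction H Ω]
    [FaithfulSMul H Ω] (hΩ : 3 ≤ Fintype.card Ω) :
    ¬ MulAction.IsMultiplyPretransitive H Ω 2 := by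
  subst h
  exact main_P hΩ

end Cfsg.Agent.Helper9.TitsM
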